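import Groth.Agent.Lib.TensorMod.Hom
import Groth.Agent.Lib.CurveCoh17.TensorExact

/-!
# Naturality of the unit and associativity isomorphisms of `CohB1.tensorMod`
-/

set_option autoImplicit false

universe u

open CategoryTheory MonoidalCategory AlgebraicGeometry

namespace Groth.Agent.M2

variable {X : Scheme.{u}}

theorem shf_sq {A B C D : PM X.presheaf} (p : A ⟶ B) (q : B ⟶ D) (r : A ⟶ C) (t : C ⟶ D) (h : p ≫ q = r ≫ t) :
    (shf X).map p ≫ (shf X).map q = (shf X).map r ≫ (shf X).map t :=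
  ((shf X).map_comp p q).symm.trans ((congrArg (shf X).map h).trans ((shf X).map_comp r t))

theorem tensorComm_natural {L L' M M' : X.Modules} (f : L ⟶ L') (g : M ⟶ M') :
    tensorMap f g ≫ (tensorComm L' M').hom = (tensorComm L M).hom ≫ tensorMap g f :=
  shf_sq _ _ _ _ (BraidedCategory.braiding_naturality _ _)

theorem counit_natural {M M' : X.Modules} (g : M ⟶ M') :
    (shf X).map ((pmF X).map g) ≫ (shfPmIso M').hom = (shfPmIso M).hom ≫ g :=
  (adjS X).counit.naturality g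

theorem tensorLUnit_natural {M M' : X.Modules} (g : M ⟶ M') :
    tensorMap (𝟙 (Coh.structureModule X)) g ≫ (tensorLUnit M').hom = (tensorLUnit M).hom ≫ g := by
  have h1 : ((pmF X).map (𝟙 (Coh.structureModule X)) ⊗ₘ (pmF X).map g) ≫ (λ_ (pm M')).hom =
      (λ_ (pm M)).hom ≫ (pmF X).map g := by
    rw [CategoryTheory.Functor.map_id]
    exact (congrArg (· ≫ (λ_ (pm M')).hom) (id_tensorHom _ _)).trans (leftUnitor_naturality _)
  exact (Category.assoc _ _ _).symm.trans ((congrArg (· ≫ (shfPmIso M').hom) (shf_sq _ _ _ _ h1)).trans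
    ((Category.assoc _ _ _).trans ((congrArg ((shf X).map (λ_ (pm M)).hom ≫ ·) (counit_natural g)).trans
      (Category.assoc _ _ _).symm)))

theorem tensorRUnit_natural {M M' : X.Modules} (g : M ⟶ M') :
    tensorMap g (𝟙 (Coh.structureModule X)) ≫ (tensorRUnit M').hom = (tensorRUnit M).hom ≫ g := by
  have h1 : ((pmF X).map g ⊗ₘ (pmF X).map (𝟙 (Coh.structureModule X))) ≫ (ρ_ (pm M')).hom =
      (ρ_ (pm M)).hom ≫ (pmF X).map g := by
    rw [CategoryTheory.Functor.map_id]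
    exact (congrArg (· ≫ (ρ_ (pm M')).hom) (tensorHom_id _ _)).trans (rightUnitor_naturality _)
  exact (Category.assoc _ _ _).symm.trans ((congrArg (· ≫ (shfPmIso M').hom) (shf_sq _ _ _ _ h1)).trans
    ((Category.assoc _ _ _).trans ((congrArg ((shf X).map (ρ_ (pm M)).hom ≫ ·) (counit_natural g)).trans
      (Category.assoc _ _ _).symm)))

theorem conj_sq {A B C D E F G H : X.Modules} {p : A ⟶ E} {q : B ⟶ F} {r : C ⟶ G} {t : D ⟶ H}
    (a : B ≅ A) (m : B ⟶ C) (z : C ⟶ D) (a' : F ≅ E) (m' : F ⟶ G) (z' : G ⟶ H)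
    (ha : q ≫ a'.hom = a.hom ≫ p) (hm : q ≫ m' = m ≫ r) (hz : r ≫ z' = z ≫ t) :
    p ≫ (a'.inv ≫ m' ≫ z') = (a.inv ≫ m ≫ z) ≫ t := by
  have ha' : p ≫ a'.inv = a.inv ≫ q := by
    rw [← cancel_epi a.hom, Iso.hom_inv_id_assoc, ← Category.assoc, ← ha, Category.assoc, Iso.hom_inv_id,
      Category.comp_id]
  rw [← Category.assoc, ha', Category.assoc, Category.assoc, Category.assoc, ← hz, ← Category.assoc q, hm,
    Category.assoc]

theorem tensorAssoc_natural {L L' M M' N N' : X.Modules} (f : L ⟶ L') (g : M ⟶ M') (h : N ⟶ N') :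
    tensorMap (tensorMap f g) h ≫ (tensorAssoc L' M' N').hom =
      (tensorAssoc L M N).hom ≫ tensorMap f (tensorMap g h) := by
  let F := (pmF X).map f
  let G := (pmF X).map g
  let H := (pmF X).map h
  refine conj_sq (q := (shf X).map ((F ⊗ₘ G) ⊗ₘ H)) (r := (shf X).map (F ⊗ₘ (G ⊗ₘ H)))
    (shfWhiskerIso' (pm L ⊗ pm M) (pm N)) ((shf X).map (α_ (pm L) (pm M) (pm N)).hom)
    (shfWhiskerIso (pm L) (pm M ⊗ pm N)).hom
    (shfWhiskerIso' (pm L' ⊗ pm M') (pm N')) ((shf X).map (α_ (pm L') (pm M') (pm N')).hom)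
    (shfWhiskerIso (pm L') (pm M' ⊗ pm N')).hom ?_ (shf_sq _ _ _ _ (associator_naturality _ _ _)) ?_
  · refine shf_sq _ _ _ _ ?_
    refine (tensorHom_comp_tensorHom _ _ _ _).trans (Eq.trans ?_ (tensorHom_comp_tensorHom _ _ _ _).symm)
    exact congr_arg₂ (fun u v => u ⊗ₘ v) (unitS_naturality (F ⊗ₘ G)) ((Category.comp_id H).trans (Category.id_comp H).symm)
  · refine shf_sq _ _ _ _ ?_
    refine (tensorHom_comp_tensorHom _ _ _ _).trans (Eq.trans ?_ (tensorHom_comp_tensorHom _ _ _ _).symm)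
    exact congr_arg₂ (fun u v => u ⊗ₘ v) ((Category.comp_id F).trans (Category.id_comp F).symm) (unitS_naturality (G ⊗ₘ H))

/-- `(M ⊗ D) ⊗ L ≅ M` for `D ⊗ L ≅ O`. -/
noncomputable def untwist {D L : X.Modules} (e : CohB1.tensorMod D L ≅ Coh.structureModule X) (M : X.Modules) :
    CohB1.tensorMod (CohB1.tensorMod M D) L ≅ M :=
  tensorAssoc M D L ≪≫ tensorIso (Iso.refl M) e ≪≫ tensorRUnit M

theorem untwist_natural {D L : X.Modules} (e : CohB1.tensorMod D L ≅ Coh.structureModule X) {M M' : X.Modules}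
    (f : M ⟶ M') :
    tensorMap (tensorMap f (𝟙 D)) (𝟙 L) ≫ (untwist e M').hom = (untwist e M).hom ≫ f := by
  simp only [untwist, Iso.trans_hom, Category.assoc]
  rw [← Category.assoc, tensorAssoc_natural, Category.assoc, tensorMap_id]
  congr 1
  rw [← tensorRUnit_natural, ← Category.assoc, ← Category.assoc]
  congr 1
  show tensorMap f (𝟙 _) ≫ tensorMap (𝟙 M') e.hom = tensorMap (𝟙 M) e.hom ≫ tensorMap f (𝟙 _)
  rw [← tensorMap_comp, ← tensorMap_comp]
  simp

end Groth.Agent.M2
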